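import Groth.Agent.Lib.FinPres16.HomSheafColim
import Groth.Agent.Lib.ModFlat16.Criterion

/-! The comparison `Hom(M, N) ⊗ H ⟶ Hom(M, N ⊗ H)`. -/

set_option autoImplicit false
set_option linter.style.haveILetI false
set_option linter.unusedSectionVars false
set_option backward.isDefEq.respectTransparency false
set_option backward.isDefEq.respectTransparency.types false

universe u

open CategoryTheory CategoryTheory.Limits Opposite MonoidalCategory TensorProduct

noncomputable section

namespace Groth.Agent.HomTen16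

open Groth.Agent.ModFlat16 Groth.Agent.FinPres16 Groth.Agent.KFlat.Site

variable {C : Type u} [SmallCategory C] {J : GrothendieckTopology C} {O : Sheaf J CommRingCat.{u}}
  {M N : ModSite.Mod O} (H : ModSite.Mod O) [ModSite.HasSheafHom M]

/-- A map over the slice from a natural family of linear maps. -/
def sliceHom {W : C} (f : ∀ {V : C}, (V ⟶ W) → ModSite.sect M V → ModSite.sect N V)
    (hadd : ∀ {V : C} (u : V ⟶ W) (s s' : ModSite.sect M V), f u (s + s') = f u s + f u s')
    (hsmul : ∀ {V : C} (u : V ⟶ W) (r : O.obj.obj (op V)) (s : ModSite.sect M V), f u (r • s) = r • f u s)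
    (hnat : ∀ {V V' : C} (u : V ⟶ W) (k : V' ⟶ V) (s : ModSite.sect M V),
      f (k ≫ u) (Groth.Agent.ModFlat16.smap M k s) = Groth.Agent.ModFlat16.smap N k (f u s)) :
    (ModSite.restr O W).obj M ⟶ (ModSite.restr O W).obj N :=
  ⟨PresheafOfModules.homMk
    { app := fun A => AddCommGrpCat.ofHom (AddMonoidHom.mk' (fun s => f A.unop.hom s) (hadd A.unop.hom))
      naturality := fun A A' a => by
        ext s
        show f A'.unop.hom (Groth.Agent.ModFlat16.smap M a.unop.left s) =
          Groth.Agent.ModFlat16.smap N a.unop.left (f A.unop.hom s)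
        rw [← Over.w a.unop]
        exact hnat _ _ s }
    fun A r s => hsmul A.unop.hom r s⟩

variable (N) in
/-- The tensor product `N ⊗ H`. -/
abbrev NH : ModSite.Mod O := ((ModSite.tensorBi O).obj N).obj H

/-- The value at a pure tensor on the sections. -/
abbrev etm {A B : ModSite.Mod O} {V : C} (a : ModSite.sect A V) (b : ModSite.sect B V) :
    ModSite.sect (((ModSite.tensorBi O).obj A).obj B) V :=
  (eta A B).app (op V) (tm a b)

theorem etm_add_left {A B : ModSite.Mod O} {V : C} (a a' : ModSite.sect A V) (b : ModSite.sect B V) :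
    etm (a + a') b = etm a b + etm a' b := by
  rw [etm, tm_add_left]; exact map_add _ _ _

theorem etm_add_right {A B : ModSite.Mod O} {V : C} (a : ModSite.sect A V) (b b' : ModSite.sect B V) :
    etm a (b + b') = etm a b + etm a b' := by
  rw [etm, tm_add_right]; exact map_add _ _ _

theorem etm_smul_left {A B : ModSite.Mod O} {V : C} (r : O.obj.obj (op V)) (a : ModSite.sect A V)
    (b : ModSite.sect B V) : etm (r • a) b = r • etm a b := by
  refine (congrArg ((eta A B).app (op V)) (show tm (r • a) b = r • tm a b from TensorProduct.smul_tmul' r a b)).trans ?_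
  exact ((eta A B).app (op V)).hom.map_smul r _

theorem etm_smul_right {A B : ModSite.Mod O} {V : C} (r : O.obj.obj (op V)) (a : ModSite.sect A V)
    (b : ModSite.sect B V) : etm a (r • b) = r • etm a b := by
  rw [etm, ← tm_smul r a b]; exact etm_smul_left r a b

theorem smap_etm {A B : ModSite.Mod O} {V V' : C} (k : V' ⟶ V) (a : ModSite.sect A V) (b : ModSite.sect B V) :
    Groth.Agent.ModFlat16.smap (((ModSite.tensorBi O).obj A).obj B) k (etm a b) =
      etm (Groth.Agent.ModFlat16.smap A k a) (Groth.Agent.ModFlat16.smap B k b) :=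
  (PresheafOfModules.naturality_apply (eta A B) k.op (tm a b)).symm.trans (congrArg _ (map_tm k a b))

/-- The map over the slice given by a section of `Hom(M, N)` and a section of `H`. -/
def sliceOf {W : C} (z : ModSite.sect ((ModSite.sheafHom M).obj N) W) (h : ModSite.sect H W) :
    (ModSite.restr O W).obj M ⟶ (ModSite.restr O W).obj (NH N H) :=
  sliceHom (M := M) (N := NH N H)
    (fun {V} u s => etm (hval (Groth.Agent.ModFlat16.smap ((ModSite.sheafHom M).obj N) u z) s)
      (Groth.Agent.ModFlat16.smap H u h))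
    (fun {V} u s s' => by rw [hval_add, etm_add_left])
    (fun {V} u r s => by rw [hval_smul, etm_smul_left])
    (fun {V V'} u k s => by rw [hval_smap', smap_comp u k h, smap_etm])

/-- The value of the comparison on a pure tensor. -/
def cval {W : C} (z : ModSite.sect ((ModSite.sheafHom M).obj N) W) (h : ModSite.sect H W) :
    ModSite.sect ((ModSite.sheafHom M).obj (NH N H)) W :=
  (exists_hval (sliceOf H z h)).choose

theorem hval_cval {W V : C} (z : ModSite.sect ((ModSite.sheafHom M).obj N) W) (h : ModSite.sect H W)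
    (u : V ⟶ W) (s : ModSite.sect M V) :
    hval (Groth.Agent.ModFlat16.smap _ u (cval H z h)) s =
      etm (hval (Groth.Agent.ModFlat16.smap ((ModSite.sheafHom M).obj N) u z) s) (Groth.Agent.ModFlat16.smap H u h) :=
  (exists_hval (sliceOf H z h)).choose_spec u s

theorem cval_add_left {W : C} (z z' : ModSite.sect ((ModSite.sheafHom M).obj N) W) (h : ModSite.sect H W) :
    cval H (z + z') h = cval H z h + cval H z' h :=
  hval_ext _ _ fun u s => by rw [hval_cval, map_add, map_add, hval_add_left, hval_add_left, hval_cval, hval_cval, etm_add_left]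

theorem cval_add_right {W : C} (z : ModSite.sect ((ModSite.sheafHom M).obj N) W) (h h' : ModSite.sect H W) :
    cval H z (h + h') = cval H z h + cval H z h' :=
  hval_ext _ _ fun u s => by rw [hval_cval, map_add, map_add, hval_add_left, hval_cval, hval_cval, etm_add_right]

theorem cval_smul_left {W : C} (r : O.obj.obj (op W)) (z : ModSite.sect ((ModSite.sheafHom M).obj N) W)
    (h : ModSite.sect H W) : cval H (r • z) h = r • cval H z h :=
  hval_ext _ _ fun u s => by rw [hval_cval, smap_smul, smap_smul, hval_smul_left, hval_smul_left, hval_cval, etm_smul_left]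

theorem cval_smul_right {W : C} (r : O.obj.obj (op W)) (z : ModSite.sect ((ModSite.sheafHom M).obj N) W)
    (h : ModSite.sect H W) : cval H z (r • h) = r • cval H z h :=
  hval_ext _ _ fun u s => by rw [hval_cval, smap_smul, smap_smul, hval_smul_left, hval_cval, etm_smul_right]

theorem smap_cval {W W' : C} (k : W' ⟶ W) (z : ModSite.sect ((ModSite.sheafHom M).obj N) W) (h : ModSite.sect H W) :
    Groth.Agent.ModFlat16.smap _ k (cval H z h) =
      cval H (Groth.Agent.ModFlat16.smap _ k z) (Groth.Agent.ModFlat16.smap H k h) :=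
  hval_ext _ _ fun u s => by rw [← smap_comp, hval_cval, hval_cval, ← smap_comp, ← smap_comp]

variable (M N) in
/-- The comparison on the presheaf tensor product. -/
def preComp : Pt ((ModSite.sheafHom M).obj N) H ⟶ (ModSite.toPre O).obj ((ModSite.sheafHom M).obj (NH N H)) where
  app V := ModuleCat.MonoidalCategory.tensorLift (fun z h => cval H (W := V.unop) z h)
    (fun z z' h => cval_add_left H (W := V.unop) z z' h)
    (fun a z h => cval_smul_left H (W := V.unop) a z h)
    (fun z h h' => cval_add_right H (W := V.unop) z h h')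
    (fun a z h => cval_smul_right H (W := V.unop) a z h)
  naturality {V V'} g := ModuleCat.MonoidalCategory.tensor_ext fun z h => by
    obtain ⟨V⟩ := V
    obtain ⟨V'⟩ := V'
    exact (smap_cval H g.unop z h).symm

variable (M N) in
/-- The comparison. -/
def comparison : ((ModSite.tensorBi O).obj ((ModSite.sheafHom M).obj N)).obj H ⟶
    (ModSite.sheafHom M).obj (((ModSite.tensorBi O).obj N).obj H) :=
  ((adj O).homEquiv _ _).symm (preComp M N H)

theorem comparison_etm {V : C} (z : ModSite.sect ((ModSite.sheafHom M).obj N) V) (h : ModSite.sect H V) :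
    (comparison M N H).val.app (op V) (etm z h) = cval H z h := by
  have e : (adj O).unit.app (Pt ((ModSite.sheafHom M).obj N) H) ≫ (ModSite.toPre O).map (comparison M N H) =
      preComp M N H :=
    ((adj O).homEquiv_unit (f := comparison M N H)).symm.trans (Equiv.apply_symm_apply _ _)
  exact congrArg (fun q : Pt ((ModSite.sheafHom M).obj N) H ⟶
    (ModSite.toPre O).obj ((ModSite.sheafHom M).obj (NH N H)) => q.app (op V) (tm z h)) e

theorem eta_sum_tm {A B : ModSite.Mod O} {V : C} {ι : Type*} (S : Finset ι) (a : ι → ModSite.sect A V)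
    (b : ι → ModSite.sect B V) : (eta A B).app (op V) (∑ j ∈ S, tm (a j) (b j)) = ∑ j ∈ S, etm (a j) (b j) :=
  map_sum ((eta A B).app (op V)).hom _ S

theorem hval_sum_left {V : C} {ι : Type*} (S : Finset ι) (z : ι → ModSite.sect ((ModSite.sheafHom M).obj N) V)
    (s : ModSite.sect M V) : hval (∑ j ∈ S, z j) s = ∑ j ∈ S, hval (z j) s :=
  map_sum (AddMonoidHom.mk' (fun z => hval z s) fun z z' => hval_add_left z z' s) z S

theorem hval_comparison_sum {V : C} {ι : Type*} (S : Finset ι)
    (z : ι → ModSite.sect ((ModSite.sheafHom M).obj N) V) (h : ι → ModSite.sect H V) (s : ModSite.sect M V) :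
    hval ((comparison M N H).val.app (op V) (∑ j ∈ S, etm (z j) (h j))) s =
      ∑ j ∈ S, etm (hval (z j) s) (h j) := by
  rw [map_sum]
  refine (hval_sum_left (N := NH N H) S _ s).trans (Finset.sum_congr rfl fun j _ => ?_)
  rw [comparison_etm]
  have e := hval_cval H (z j) (h j) (𝟙 V) s
  rw [smap_id, smap_id, smap_id] at e
  exact e

variable {H}

/-- One relation in a tensor product with a flat module is locally trivial. -/
theorem tensor_relation (hH : RelTriv H) {U : C} {l : ℕ} (a : Fin l → ModSite.sect N U) (h : Fin l → ModSite.sect H U)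
    (h0 : ∑ j, tm (a j) (h j) = 0) :
    ∃ T ∈ J U, ∀ ⦃W : C⦄ (k : W ⟶ U), T k → ∃ (q : ℕ) (t : Fin q → ModSite.sect H W)
      (c : Fin l → Fin q → O.obj.obj (op W)),
      (∀ j, Groth.Agent.ModFlat16.smap H k (h j) = ∑ i, c j i • t i) ∧
        ∀ i, ∑ j, c j i • Groth.Agent.ModFlat16.smap N k (a j) = 0 := by
  obtain ⟨p, m, g, A, y, hn, hrel⟩ := vanish_data (R := O.obj.obj (op U)) (M := ModSite.sect H U)
    (N := ModSite.sect N U) h a h0
  let u : Fin (l + p) → ModSite.sect H U := fun i => Sum.elim h g (finSumFinEquiv.symm i)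
  obtain ⟨T, hT, hT'⟩ := hH.many u m (fun r i => A (finSumFinEquiv.symm i) r) (fun r => by
    rw [← finSumFinEquiv.sum_comp]
    simpa [u] using hrel r)
  refine ⟨T, hT, fun W k hk => ?_⟩
  obtain ⟨q, t, c, htc, hfc⟩ := hT' k hk
  refine ⟨q, t, fun j i => c (finSumFinEquiv (Sum.inl j)) i, fun j => ?_, fun i => ?_⟩
  · rw [← htc]
    simp [u]
  · calc ∑ j, c (finSumFinEquiv (Sum.inl j)) i • Groth.Agent.ModFlat16.smap N k (a j)
        = ∑ j, c (finSumFinEquiv j) i • Groth.Agent.ModFlat16.smap N k (Sum.elim a (fun _ => 0) j) := by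
          rw [Fintype.sum_sum_type]
          have hz : ∀ j : Fin p, c (finSumFinEquiv (Sum.inr j)) i •
              Groth.Agent.ModFlat16.smap N k (Sum.elim a (fun _ => (0 : ModSite.sect N U)) (Sum.inr j)) = 0 := fun j => by
            rw [show Groth.Agent.ModFlat16.smap N k (Sum.elim a (fun _ => (0 : ModSite.sect N U)) (Sum.inr j)) = 0 from
              map_zero _, smul_zero]
          rw [Finset.sum_eq_zero fun j _ => hz j, add_zero]
          rfl
      _ = ∑ r, (∑ j, c (finSumFinEquiv j) i * rmap O k (A j r)) • Groth.Agent.ModFlat16.smap N k (y r) := by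
          simp only [Finset.sum_smul]
          rw [Finset.sum_comm]
          refine Finset.sum_congr rfl fun j _ => ?_
          rw [hn j, map_sum, Finset.smul_sum]
          exact Finset.sum_congr rfl fun r _ => by rw [smap_smul, mul_smul]
      _ = 0 := Finset.sum_eq_zero fun r _ => by
          have h2 := hfc r i
          rw [← finSumFinEquiv.sum_comp] at h2
          simp only [Equiv.symm_apply_apply] at h2
          rw [h2, zero_smul]

/-- Finitely many relations, vanishing in the sheaf tensor product, are simultaneously locally trivial. -/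
theorem tensor_relations (hH : RelTriv H) {U : C} {l : ℕ} (h : Fin l → ModSite.sect H U) :
    ∀ (m : ℕ) (a : Fin m → Fin l → ModSite.sect N U), (∀ r, ∑ j, etm (a r j) (h j) = 0) →
    ∃ T ∈ J U, ∀ ⦃W : C⦄ (k : W ⟶ U), T k → ∃ (q : ℕ) (t : Fin q → ModSite.sect H W)
      (c : Fin l → Fin q → O.obj.obj (op W)),
      (∀ j, Groth.Agent.ModFlat16.smap H k (h j) = ∑ i, c j i • t i) ∧
        ∀ r i, ∑ j, c j i • Groth.Agent.ModFlat16.smap N k (a r j) = 0 := by
  classical
  intro m
  induction m with
  | zero =>
    intro a _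
    refine ⟨⊤, J.top_mem U, fun W k _ => ⟨l, fun j => Groth.Agent.ModFlat16.smap H k (h j),
      fun i j => if i = j then 1 else 0, fun i => ?_, fun r => r.elim0⟩⟩
    rw [Finset.sum_eq_single i]
    · show _ = (if i = i then (1 : O.obj.obj (op W)) else 0) • Groth.Agent.ModFlat16.smap H k (h i)
      rw [if_pos rfl]
      exact (one_smul (O.obj.obj (op W)) _).symm
    · intro j _ hj
      show (if i = j then (1 : O.obj.obj (op W)) else 0) • Groth.Agent.ModFlat16.smap H k (h j) = 0
      rw [if_neg (Ne.symm hj)]
      exact zero_smul (O.obj.obj (op W)) _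
    · simp
  | succ m ih =>
    intro a ha
    obtain ⟨T, hT, hT'⟩ := ih (fun r => a r.castSucc) (fun r => ha _)
    refine bind_cover T hT fun W k hk => ?_
    obtain ⟨q, t, c, hc, hc'⟩ := hT' k hk
    let b : Fin q → ModSite.sect N W := fun i => ∑ j, c j i • Groth.Agent.ModFlat16.smap N k (a (Fin.last m) j)
    have hb : (eta N H).app (op W) (∑ i, tm (b i) (t i)) = 0 := by
      have h1 := congrArg (Groth.Agent.ModFlat16.smap (NH N H) k) (ha (Fin.last m))
      rw [map_zero, map_sum] at h1
      refine Eq.trans ?_ h1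
      rw [eta_sum_tm]
      simp only [b, smap_etm, hc]
      have e1 : ∀ i, etm (∑ j, c j i • Groth.Agent.ModFlat16.smap N k (a (Fin.last m) j)) (t i) =
          ∑ j, c j i • etm (Groth.Agent.ModFlat16.smap N k (a (Fin.last m) j)) (t i) := fun i =>
        (map_sum (AddMonoidHom.mk' (fun x => etm x (t i)) fun x x' => etm_add_left x x' (t i)) _ _).trans
          (Finset.sum_congr rfl fun j _ => etm_smul_left _ _ _)
      have e2 : ∀ j, etm (Groth.Agent.ModFlat16.smap N k (a (Fin.last m) j)) (∑ i, c j i • t i) =
          ∑ i, c j i • etm (Groth.Agent.ModFlat16.smap N k (a (Fin.last m) j)) (t i) := fun j =>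
        (map_sum (AddMonoidHom.mk' (fun x => etm (Groth.Agent.ModFlat16.smap N k (a (Fin.last m) j)) x)
          fun x x' => etm_add_right _ x x') _ _).trans (Finset.sum_congr rfl fun i _ => etm_smul_right _ _ _)
      simp only [e1, e2]
      exact Finset.sum_comm
    obtain ⟨T₁, hT₁, hT₁'⟩ := eta_locally_injective (X := N) (F := H) (∑ i, tm (b i) (t i)) 0
      (hb.trans (map_zero _).symm)
    refine bind_cover T₁ hT₁ fun W₁ k₁ hk₁ => ?_
    have hb' : ∑ i, tm (Groth.Agent.ModFlat16.smap N k₁ (b i)) (Groth.Agent.ModFlat16.smap H k₁ (t i)) = 0 := by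
      have h2 := (hT₁' k₁ hk₁).trans (map_zero _)
      rw [map_sum] at h2
      exact h2
    obtain ⟨T₂, hT₂, hT₂'⟩ := tensor_relation hH _ _ hb'
    refine ⟨T₂, hT₂, fun W₂ k₂ hk₂ => ?_⟩
    obtain ⟨p, v, d, hd, hd'⟩ := hT₂' k₂ hk₂
    refine ⟨p, v, fun j s => ∑ i, rmap O (k₂ ≫ k₁) (c j i) * d i s, fun j => ?_, fun r s => ?_⟩
    · rw [smap_comp, hc, map_sum]
      simp only [Finset.sum_smul]
      rw [Finset.sum_comm]
      refine Finset.sum_congr rfl fun i _ => ?_
      rw [smap_smul, smap_comp k₁ k₂ (t i), hd, Finset.smul_sum]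
      exact Finset.sum_congr rfl fun s _ => (mul_smul _ _ _).symm
    · have key : ∑ j, (∑ i, rmap O (k₂ ≫ k₁) (c j i) * d i s) •
            Groth.Agent.ModFlat16.smap N ((k₂ ≫ k₁) ≫ k) (a r j) =
          ∑ i, d i s • Groth.Agent.ModFlat16.smap N (k₂ ≫ k₁) (∑ j, c j i • Groth.Agent.ModFlat16.smap N k (a r j)) := by
        simp only [Finset.sum_smul, map_sum, Finset.smul_sum, smap_smul, ← smap_comp]
        rw [Finset.sum_comm]
        refine Finset.sum_congr rfl fun i _ => Finset.sum_congr rfl fun j _ => ?_
        rw [← mul_smul, mul_comm (G := O.obj.obj (op W₂))]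
      rw [key]
      induction r using Fin.lastCases with
      | last =>
        refine Eq.trans (Finset.sum_congr rfl fun i _ => ?_) (hd' s)
        rw [← smap_comp]
      | cast r => exact Finset.sum_eq_zero fun i _ => by rw [hc' r i, map_zero, smul_zero]

end Groth.Agent.HomTen16
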