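import Groth.Agent.Lib.HomTen16.Comparison
import Groth.Agent.Lib.ModFlat16.LocFT

/-! The comparison is an isomorphism for a finitely presented module and a flat module. -/

set_option autoImplicit false
set_option linter.style.haveILetI false
set_option linter.unusedSectionVars false
set_option backward.isDefEq.respectTransparency false
set_option backward.isDefEq.respectTransparency.types false

universe u

open CategoryTheory CategoryTheory.Limits Opposite MonoidalCategory TensorProduct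

noncomputable section

namespace Groth.Agent.HomTen16

open Groth.Agent.ModFlat16 Groth.Agent.FinPres16 Groth.Agent.KFlat.Site

variable {C : Type u} [SmallCategory C] {J : GrothendieckTopology C} {O : Sheaf J CommRingCat.{u}}
  {M N H : ModSite.Mod O} [ModSite.HasSheafHom M]

theorem hval_comb_left {V : C} {ι : Type*} [Fintype ι] (d : ι → O.obj.obj (op V))
    (z : ι → ModSite.sect ((ModSite.sheafHom M).obj N) V) (s : ModSite.sect M V) :
    hval (∑ j, d j • z j) s = ∑ j, d j • hval (z j) s := by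
  rw [hval_sum_left]
  exact Finset.sum_congr rfl fun j _ => hval_smul_left _ _ _

/-- Locally every section of a tensor product is a sum of elementary tensors. -/
theorem locally_sum_etm (A B : ModSite.Mod O) {U : C} (σ : ModSite.sect (((ModSite.tensorBi O).obj A).obj B) U) :
    ∃ T ∈ J U, ∀ ⦃W : C⦄ (k : W ⟶ U), T k → ∃ (l : ℕ) (a : Fin l → ModSite.sect A W) (b : Fin l → ModSite.sect B W),
      Groth.Agent.ModFlat16.smap (((ModSite.tensorBi O).obj A).obj B) k σ = ∑ j, etm (a j) (b j) := by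
  obtain ⟨T, hT, hT'⟩ := eta_locally_surjective (X := A) (F := B) σ
  refine ⟨T, hT, fun W k hk => ?_⟩
  obtain ⟨w, hw⟩ := hT' k hk
  obtain ⟨l, a, b, rfl⟩ := exists_eq_sum_tm w
  exact ⟨l, a, b, hw.symm.trans (eta_sum_tm _ _ _)⟩

theorem smap_sum_etm {A B : ModSite.Mod O} {V W : C} (k : W ⟶ V) {l : ℕ} (a : Fin l → ModSite.sect A V)
    (b : Fin l → ModSite.sect B V) :
    Groth.Agent.ModFlat16.smap (((ModSite.tensorBi O).obj A).obj B) k (∑ j, etm (a j) (b j)) =
      ∑ j, etm (Groth.Agent.ModFlat16.smap A k (a j)) (Groth.Agent.ModFlat16.smap B k (b j)) := by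
  rw [map_sum]
  exact Finset.sum_congr rfl fun j _ => smap_etm k _ _

theorem sum_etm_regroup {A B : ModSite.Mod O} {V : C} {ι κ : Type*} [Fintype ι] [Fintype κ]
    (a : ι → ModSite.sect A V) (c : ι → κ → O.obj.obj (op V)) (t : κ → ModSite.sect B V) :
    ∑ j, etm (a j) (∑ q, c j q • t q) = ∑ q, etm (∑ j, c j q • a j) (t q) := by
  have e1 : ∀ j, etm (a j) (∑ q, c j q • t q) = ∑ q, c j q • etm (a j) (t q) := fun j =>
    (map_sum (AddMonoidHom.mk' (fun x => etm (a j) x) fun x x' => etm_add_right _ x x') _ _).trans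
      (Finset.sum_congr rfl fun q _ => etm_smul_right _ _ _)
  have e2 : ∀ q, etm (∑ j, c j q • a j) (t q) = ∑ j, c j q • etm (a j) (t q) := fun q =>
    (map_sum (AddMonoidHom.mk' (fun x => etm x (t q)) fun x x' => etm_add_left x x' _) _ _).trans
      (Finset.sum_congr rfl fun j _ => etm_smul_left _ _ _)
  simp only [e1, e2]
  exact Finset.sum_comm

theorem mono_comparison [SheafOfModules.IsFiniteType (R := ModSite.ringSh O) M] (hH : RelTriv H) :
    Mono (comparison M N H) := by
  refine mono_of_injective _ fun U x y hxy => sub_eq_zero.1 ?_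
  let θ := comparison M N H
  have h0 : θ.val.app (op U) (x - y) = 0 := by rw [map_sub]; exact sub_eq_zero.2 hxy
  obtain ⟨T₁, hT₁, hT₁'⟩ := locally_sum_etm _ _ (x - y)
  obtain ⟨T, hT, hT'⟩ := bind_cover (Q := fun W g =>
      Groth.Agent.ModFlat16.smap (((ModSite.tensorBi O).obj ((ModSite.sheafHom M).obj N)).obj H) g (x - y) = 0)
      T₁ hT₁ fun W₁ k₁ hk₁ => by
    obtain ⟨l, z, h, hσ⟩ := hT₁' k₁ hk₁
    obtain ⟨T₂, hT₂, hT₂'⟩ := covd_hasGens (M := M) W₁
    refine bind_cover T₂ hT₂ fun W₂ k₂ hk₂ => ?_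
    obtain ⟨ι, hι, s, hs⟩ := hT₂' k₂ hk₂
    let e := Fintype.equivFin ι
    let z₂ := fun j => Groth.Agent.ModFlat16.smap ((ModSite.sheafHom M).obj N) k₂ (z j)
    let h₂ := fun j => Groth.Agent.ModFlat16.smap H k₂ (h j)
    have hσ₂ : Groth.Agent.ModFlat16.smap (((ModSite.tensorBi O).obj ((ModSite.sheafHom M).obj N)).obj H) (k₂ ≫ k₁) (x - y) =
        ∑ j, etm (z₂ j) (h₂ j) := by
      rw [smap_comp, hσ, smap_sum_etm]
    have hval0 : ∀ r, ∑ j, etm (hval (z₂ j) (s (e.symm r))) (h₂ j) = 0 := fun r => by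
      rw [← hval_comparison_sum, ← hσ₂, app_smap θ, h0, map_zero, hval_zero_left]
    obtain ⟨T₃, hT₃, hT₃'⟩ := tensor_relations hH h₂ _ (fun r j => hval (z₂ j) (s (e.symm r))) hval0
    refine ⟨T₃, hT₃, fun W₃ k₃ hk₃ => ?_⟩
    obtain ⟨q, t, c, hc, hc'⟩ := hT₃' k₃ hk₃
    have hz : ∀ i, ∑ j, c j i • Groth.Agent.ModFlat16.smap ((ModSite.sheafHom M).obj N) k₃ (z₂ j) = 0 := fun i => by
      refine hval_ext _ _ fun u m => hval_eq_of_gens (gens_smap k₃ hs) _ _ (fun w => ?_) u m
      rw [hval_zero_left, hval_comb_left]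
      refine Eq.trans (Finset.sum_congr rfl fun j _ => ?_) (hc' (e w) i)
      rw [hval_smap, e.symm_apply_apply]
    show Groth.Agent.ModFlat16.smap _ ((k₃ ≫ k₂) ≫ k₁) (x - y) = 0
    rw [Category.assoc, smap_comp, hσ₂, smap_sum_etm]
    simp only [hc]
    rw [sum_etm_regroup]
    exact Finset.sum_eq_zero fun i _ => by
      rw [hz]
      exact (congrArg ((eta _ H).app (op W₃)) (tm_zero_left _)).trans (map_zero _)
  exact eq_of_locally _ _ T hT fun W g hg => (hT' g hg).trans (map_zero _).symm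

theorem epi_comparison [SheafOfModules.IsFinitePresentation (R := ModSite.ringSh O) M] (hH : RelTriv H) :
    Epi (comparison M N H) := by
  refine epi_of_local_preimages _ fun V x => ?_
  let θ := comparison M N H
  obtain ⟨T₀, hT₀, hT₀'⟩ := covd_hasPres (M := M) V
  refine bind_cover (Q := fun W g => ∃ y, θ.val.app (op W) y = Groth.Agent.ModFlat16.smap _ g x) T₀ hT₀ fun U g hg => ?_
  obtain ⟨ι, κ, hι, hκ, s, R, hs, hR⟩ := hT₀' g hg
  classical
  let xU := Groth.Agent.ModFlat16.smap ((ModSite.sheafHom M).obj (NH N H)) g x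
  obtain ⟨T₁, hT₁, hT₁'⟩ := cov_iInter' (J := J) (fun i => locally_sum_etm N H (hval xU (s i)))
  refine bind_cover (Q := fun W k => ∃ y, θ.val.app (op W) y = Groth.Agent.ModFlat16.smap _ (k ≫ g) x) T₁ hT₁
    fun W₁ k₁ hk₁ => ?_
  choose l a b hab using fun i => hT₁' i k₁ hk₁
  let L := Σ i, Fin (l i)
  let eL := Fintype.equivFin L
  let h₁ : Fin (Fintype.card L) → ModSite.sect H W₁ := fun j => b (eL.symm j).1 (eL.symm j).2
  let G₁ : ι → Fin (Fintype.card L) → ModSite.sect N W₁ := fun i j =>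
    if (eL.symm j).1 = i then a (eL.symm j).1 (eL.symm j).2 else 0
  let x₁ := Groth.Agent.ModFlat16.smap ((ModSite.sheafHom M).obj (NH N H)) (k₁ ≫ g) x
  have hG : ∀ i, hval x₁ (Groth.Agent.ModFlat16.smap M k₁ (s i)) = ∑ j, etm (G₁ i j) (h₁ j) := fun i => by
    rw [show x₁ = Groth.Agent.ModFlat16.smap _ k₁ xU from smap_comp g k₁ x, hval_smap, hab i,
      ← eL.sum_comp, Fintype.sum_sigma, Finset.sum_eq_single i]
    · refine Finset.sum_congr rfl fun j _ => ?_
      simp only [G₁, h₁]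
      rw [eL.symm_apply_apply, if_pos rfl]
    · intro i' _ hi'
      refine Finset.sum_eq_zero fun j _ => ?_
      simp only [G₁, h₁]
      rw [eL.symm_apply_apply, if_neg hi']
      exact (congrArg ((eta N H).app (op W₁)) (tm_zero_left _)).trans (map_zero _)
    · simp
  have hR₁ := rels_smap k₁ hR
  let eκ := Fintype.equivFin κ
  have hrel : ∀ r, ∑ j, etm (∑ i, rmap O k₁ (R (eκ.symm r) i) • G₁ i j) (h₁ j) = 0 := fun r => by
    have h1 : ∑ i, rmap O k₁ (R (eκ.symm r) i) • hval x₁ (Groth.Agent.ModFlat16.smap M k₁ (s i)) = 0 := by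
      rw [← hval_comb]
      refine (congrArg (hval x₁) (hR₁.1 (eκ.symm r))).trans ?_
      have h0 := hval_add x₁ (0 : ModSite.sect M W₁) 0
      rwa [add_zero, eq_comm, add_eq_left] at h0
    refine Eq.trans ?_ h1
    simp only [hG, Finset.smul_sum, ← etm_smul_left]
    rw [Finset.sum_comm]
    exact Finset.sum_congr rfl fun j _ =>
      map_sum (AddMonoidHom.mk' (fun w => etm w (h₁ j)) fun w w' => etm_add_left w w' _) _ _
  obtain ⟨T₂, hT₂, hT₂'⟩ := tensor_relations hH h₁ _
    (fun r j => ∑ i, rmap O k₁ (R (eκ.symm r) i) • G₁ i j) hrel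
  refine ⟨T₂, hT₂, fun W₂ k₂ hk₂ => ?_⟩
  obtain ⟨q, t, c, hc, hc'⟩ := hT₂' k₂ hk₂
  have hψ : ∀ w : Fin q, ∃ z : ModSite.sect ((ModSite.sheafHom M).obj N) W₂, ∀ i,
      hval z (Groth.Agent.ModFlat16.smap M k₂ (Groth.Agent.ModFlat16.smap M k₁ (s i))) =
        ∑ j, c j w • Groth.Agent.ModFlat16.smap N k₂ (G₁ i j) := fun w => by
    obtain ⟨ψ, hψ⟩ := exists_hom_of_pres (gens_smap k₂ (gens_smap k₁ hs)) (rels_smap k₂ hR₁)
      (fun i => ∑ j, c j w • Groth.Agent.ModFlat16.smap N k₂ (G₁ i j)) (fun r => by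
        refine Eq.trans ?_ (hc' (eκ r) w)
        simp only [Finset.smul_sum, eκ.symm_apply_apply, map_sum, smap_smul]
        rw [Finset.sum_comm]
        refine Finset.sum_congr rfl fun j _ => Finset.sum_congr rfl fun i _ => ?_
        rw [← mul_smul, ← mul_smul, mul_comm (G := O.obj.obj (op W₂))])
    obtain ⟨z, hz⟩ := exists_hval ψ
    refine ⟨z, fun i => ?_⟩
    have h2 := hψ i (𝟙 W₂)
    have h3 := hz (𝟙 W₂) (Groth.Agent.ModFlat16.smap M k₂ (Groth.Agent.ModFlat16.smap M k₁ (s i)))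
    rw [smap_id, smap_id] at h2
    rw [smap_id] at h3
    exact h3.trans h2
  choose z hz using hψ
  refine ⟨∑ w, etm (z w) (t w), hval_ext _ _ fun u m =>
    hval_eq_of_gens (gens_smap k₂ (gens_smap k₁ hs)) _ _ (fun i => ?_) u m⟩
  rw [hval_comparison_sum]
  simp only [hz]
  rw [← sum_etm_regroup]
  have h4 := congrArg (Groth.Agent.ModFlat16.smap (NH N H) k₂) (hG i)
  rw [← hval_smap, smap_sum_etm] at h4
  simp only [hc] at h4
  rw [← h4, show x₁ = Groth.Agent.ModFlat16.smap _ (k₁ ≫ g) x from rfl, ← smap_comp]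
  simp only [Category.assoc]

/-- The comparison is an isomorphism. -/
theorem nonempty_iso [SheafOfModules.IsFinitePresentation (R := ModSite.ringSh O) M] (hH : ModSite.IsFlat H) :
    Nonempty (((ModSite.tensorBi O).obj ((ModSite.sheafHom M).obj N)).obj H ≅
      (ModSite.sheafHom M).obj (((ModSite.tensorBi O).obj N).obj H)) := by
  haveI : SheafOfModules.IsFiniteType (R := ModSite.ringSh O) M := inferInstance
  haveI := mono_comparison (M := M) (N := N) (relTriv_of_isFlat hH)
  haveI := epi_comparison (M := M) (N := N) (relTriv_of_isFlat hH)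
  haveI : IsIso (comparison M N H) := isIso_of_mono_of_epi _
  exact ⟨asIso (comparison M N H)⟩

end Groth.Agent.HomTen16
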